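import Cfsg.Agent.Nodes.Slope
import Cfsg.Agent.Nodes.LeviDec

/-!
# S4884, (F1): the regular elements of `U` (helper857)

`R : RGD cs h p T n X`, `U = Sup X Pos`, `U_i = Sup X (PosNe i)`.

* `B_le_normalizer_PosNe` : `U_i` is normal in `B`;
* `IsReg cs h X u` : `u ∈ U`, `u ∉ U_i` for all `i`; `IsReg.conj` : stable under conjugation by `B`;
* `IsReg.mem_B` : `u` regular, `g⁻¹ u g ∈ B` (in particular `∈ U`) implies `g ∈ B`;
* `IsReg.cent_le_B` : the centralizer of a regular element lies in `B`.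
-/

set_option autoImplicit false
set_option linter.unusedSectionVars false

namespace Cfsg.Agent.H857.GG

open CoxeterSystem Cfsg.Agent.ChevalleyStructure.CoxeterGeom Cfsg.Agent.Tits.Roots Cfsg.Agent.Tits.Core
  Cfsg.Agent.Tits.Exchange Cfsg.Agent.Nodes.Reps Cfsg.Agent.Nodes.BNOf Cfsg.Agent.Nodes.StabComb
  Cfsg.Agent.Nodes.Bruhat Cfsg.Agent.Nodes.LeviDec

variable {I W Y : Type*} [Fintype I] [DecidableEq I] [Group W] [Group Y] {M : CoxeterMatrix I}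
  {cs : CoxeterSystem M W} {A : I → I → ℤ} {h : IsCartan M A} {p : ℕ} {T : Subgroup Y} {n : I → Y}
  {X : (I → ℤ) → Subgroup Y}

/-- regular elements of `U` : no simple coordinate is trivial -/
structure IsReg (cs : CoxeterSystem M W) (h : IsCartan M A) (X : (I → ℤ) → Subgroup Y) (u : Y) : Prop where
  mem : u ∈ RGD.Sup X (RGD.Pos cs h)
  notMem : ∀ i, u ∉ RGD.Sup X (RGD.PosNe cs h i)

variable (R : RGD cs h p T n X)

include R

/-- `U_i` is normal in `B` -/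
theorem B_le_normalizer_PosNe (i : I) :
    RGD.B cs h T X ≤ Subgroup.normalizer (RGD.Sup X (RGD.PosNe cs h i) : Set Y) := by
  refine sup_le (R.T_le_normalizer fun _ hx => hx.1) (RGD.Sup_le fun x hx => ?_)
  refine R.le_normalizer hx.1 fun y hy => ⟨hy.1, ?_⟩
  obtain ⟨hyr, hy0, hyi⟩ := hy
  refine Or.inr ⟨fun he => ?_, fun z hz => ⟨hz.1, btwn_nonneg hz hx.2 hy0, btwn_ne_sr hz hx.2 hyr hy0 hyi⟩⟩
  have h1 : (0 : I → ℤ) ≤ x := hx.2
  rw [he] at h1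
  exact hyr.neg.not_pos_neg h1 (neg_nonpos.2 hy0)

theorem conj_mem_PosNe {i : I} {b u : Y} (hb : b ∈ RGD.B cs h T X) :
    b * u * b⁻¹ ∈ RGD.Sup X (RGD.PosNe cs h i) ↔ u ∈ RGD.Sup X (RGD.PosNe cs h i) :=
  (Subgroup.mem_normalizer_iff.1 (B_le_normalizer_PosNe R i hb) u).symm

/-- regular elements are stable under conjugation by `B` -/
theorem IsReg.conj {b u : Y} (hu : IsReg cs h X u) (hb : b ∈ RGD.B cs h T X) : IsReg cs h X (b * u * b⁻¹) :=
  ⟨(Subgroup.mem_normalizer_iff.1 (R.B_le_normalizer_U hb) u).1 hu.mem,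
    fun i hi => hu.notMem i ((conj_mem_PosNe R hb).1 hi)⟩

theorem IsReg.conj_iff {b u : Y} (hb : b ∈ RGD.B cs h T X) : IsReg cs h X (b * u * b⁻¹) ↔ IsReg cs h X u := by
  refine ⟨fun hu => ?_, fun hu => hu.conj R hb⟩
  have h1 := hu.conj R (inv_mem hb)
  have e : b⁻¹ * (b * u * b⁻¹) * b⁻¹⁻¹ = u := by group
  rwa [e] at h1

/-- regular elements, representatives -/
theorem IsReg.eq_one [Finite W] {w : W} {g u : Y} (hg : Rp cs R.nsys w g) (hu : IsReg cs h X u)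
    (hB : g⁻¹ * u * g ∈ RGD.B cs h T X) : w = 1 := by
  by_contra hw
  obtain ⟨i, hi⟩ := cs.exists_leftDescent_of_ne_one hw
  have hlt : cs.length (cs.simple i * w) < cs.length w := hi
  have hneg : rep cs h w⁻¹ (sr i) ≤ 0 := by
    refine nonpos_of_lt cs h w⁻¹ i ?_
    rw [cs.length_inv, ← cs.length_inv (w⁻¹ * cs.simple i), mul_inv_rev, inv_inv, cs.inv_simple]
    exact hlt
  have h1 := Cfsg.Agent.Nodes.Slope.mem_of_conj_mem_B R hg hu.mem hB
  have h2 : {x | IsRoot cs h x ∧ 0 ≤ x ∧ 0 ≤ rep cs h w⁻¹ x} ⊆ RGD.PosNe cs h i := by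
    rintro x ⟨hx, h0, h1⟩
    refine ⟨hx, h0, ?_⟩
    rintro rfl
    exact (hx.act w⁻¹).not_pos_neg h1 hneg
  exact hu.notMem i (RGD.Sup_mono h2 h1)

/-- **(F1)** `u` regular and `g⁻¹ u g ∈ B` implies `g ∈ B` -/
theorem IsReg.mem_B [Finite W] {g u : Y} (hG : g ∈ GG cs h T X) (hu : IsReg cs h X u)
    (hB : g⁻¹ * u * g ∈ RGD.B cs h T X) : g ∈ RGD.B cs h T X := by
  obtain ⟨w, b₁, hb₁, k, hk, b₂, hb₂, rfl⟩ := (mem_GG R).1 hG
  have h1 : IsReg cs h X (b₁⁻¹ * u * b₁) := by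
    have := hu.conj R (inv_mem hb₁)
    rwa [inv_inv] at this
  have h2 : k⁻¹ * (b₁⁻¹ * u * b₁) * k ∈ RGD.B cs h T X := by
    have e : k⁻¹ * (b₁⁻¹ * u * b₁) * k = b₂ * ((b₁ * k * b₂)⁻¹ * u * (b₁ * k * b₂)) * b₂⁻¹ := by group
    rw [e]
    exact mul_mem (mul_mem hb₂ hB) (inv_mem hb₂)
  have h3 := h1.eq_one R hk h2
  subst h3
  exact mul_mem (mul_mem hb₁ (RGD.T_le_B hk.mem_of_one)) hb₂

/-- conjugates of regular elements in `U` are regular -/
theorem IsReg.of_conj [Finite W] {g u : Y} (hG : g ∈ GG cs h T X) (hu : IsReg cs h X u)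
    (hB : g⁻¹ * u * g ∈ RGD.B cs h T X) : IsReg cs h X (g⁻¹ * u * g) := by
  have h1 := hu.conj R (inv_mem (hu.mem_B R hG hB))
  rwa [inv_inv] at h1

/-- the centralizer of a regular element is contained in `B` -/
theorem IsReg.cent_mem_B [Finite W] {g u : Y} (hG : g ∈ GG cs h T X) (hu : IsReg cs h X u)
    (hc : g * u = u * g) : g ∈ RGD.B cs h T X := by
  refine hu.mem_B R hG ?_
  have e : g⁻¹ * u * g = u := by rw [mul_assoc, ← hc]; group
  rw [e]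
  exact RGD.U_le_B hu.mem

/-- regular elements are `p`-elements -/
theorem IsReg.exists_pow [Finite W] {u : Y} (hu : IsReg cs h X u) : ∃ k : ℕ, u ^ p ^ k = 1 := by
  obtain ⟨k, hk⟩ := R.isPGroup_Upos ⟨u, hu.mem⟩
  exact ⟨k, by simpa using congrArg Subtype.val hk⟩

/-- the coordinates: `U = U_i X_i` -/
theorem exists_coord (i : I) {u : Y} (hu : u ∈ RGD.Sup X (RGD.Pos cs h)) :
    ∃ v ∈ RGD.Sup X (RGD.PosNe cs h i), ∃ x ∈ X (sr i), u = v * x := by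
  have h1 : u ∈ ((RGD.Sup X (RGD.PosNe cs h i) ⊔ X (sr i) : Subgroup Y) : Set Y) := by
    rw [sup_comm, ← R.Upos_eq i]
    exact hu
  rw [Subgroup.coe_mul_of_right_le_normalizer_left _ _ (R.X_le_normalizer_V i), Set.mem_mul] at h1
  obtain ⟨v, hv, x, hx, e⟩ := h1
  exact ⟨v, hv, x, hx, e.symm⟩

/-- `U_i ∩ X_i = 1` -/
theorem eq_one_of_mem_PosNe [Finite W] {i : I} {x : Y} (hx : x ∈ X (sr i)) (hv : x ∈ RGD.Sup X (RGD.PosNe cs h i)) :
    x = 1 := by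
  refine eq_one_of_conj_mem_B R hx (rp_simple cs R.nsys i) ?_
  have h1 : n i * x * (n i)⁻¹ ∈ cj (n i) (RGD.Sup X (RGD.PosNe cs h i)) := conj_mem_cj.2 hv
  rw [R.cj_n_V i] at h1
  have h2 : RGD.PosNe cs h i ⊆ RGD.Pos cs h := fun z hz => ⟨hz.1, hz.2.1⟩
  exact RGD.U_le_B (RGD.Sup_mono h2 h1)

/-- regular elements through the coordinates -/
theorem isReg_iff [Finite W] {u : Y} (hu : u ∈ RGD.Sup X (RGD.Pos cs h)) :
    IsReg cs h X u ↔ ∀ i, ∀ v ∈ RGD.Sup X (RGD.PosNe cs h i), ∀ x ∈ X (sr i), u = v * x → x ≠ 1 := by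
  constructor
  · rintro hr i v hv x hx rfl rfl
    exact hr.notMem i (by rwa [mul_one])
  · refine fun hr => ⟨hu, fun i hi => ?_⟩
    exact hr i u hi 1 (one_mem _) (by rw [mul_one]) rfl

end Cfsg.Agent.H857.GG
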